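import Mathlib

/-!
Letters for words in `x`, `y`: with three letters `x`, `y`, `y⁻¹` when `x` is an involution,
with four letters `x`, `x⁻¹`, `y`, `y⁻¹` otherwise.
-/

set_option autoImplicit false

namespace H23
namespace HN

/-- the letter of the inverse, three letters -/
def iv3 : ℕ → ℕ
  | 1 => 2
  | 2 => 1
  | g => g

/-- the letter of the inverse, four letters -/
def iv4 : ℕ → ℕ
  | 0 => 1
  | 1 => 0
  | 2 => 3
  | 3 => 2
  | g => g

end HN
end H23
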