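import Mathlib
import Cfsg.Agent.H93.CI.Deriv
import Cfsg.Agent.H23.HN.Letters

/-!
From a checked derivation to the membership of a product of letters in a subgroup.
-/

set_option autoImplicit false

namespace H23
namespace HN

open H93.CosetI

variable {G : Type*} [Group G]

/-- the values of the three letters -/
def val3 (x y : G) : ℕ → G
  | 0 => x
  | 1 => y
  | _ => y⁻¹

/-- the values of the four letters -/
def val4 (x y : G) : ℕ → G
  | 0 => x
  | 1 => x⁻¹
  | 2 => y
  | _ => y⁻¹

theorem ev_inv_val (v : ℕ → G) (w : List ℕ) :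
    ev (fun i => (v i)⁻¹) w = ((w.map v).prod)⁻¹ := by
  induction w with
  | nil => simp [ev]
  | cons g w ih => simp [ev, ih]

/-- rotations of the words of a list, and their inverses -/
def rots (iv : ℕ → ℕ) (base : List (List ℕ)) : List (List ℕ) :=
  base.flatMap fun r => (List.range r.length).flatMap fun k =>
    [r.rotate k, ((r.rotate k).map iv).reverse]

theorem prod_rots {v : ℕ → G} {iv : ℕ → ℕ} {m : ℕ} (hinv : ∀ g < m, v g * v (iv g) = 1)
    {base : List (List ℕ)} (hlet : ∀ r ∈ base, ∀ g ∈ r, g < m)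
    (hbase : ∀ r ∈ base, (r.map v).prod = 1) {w : List ℕ} (hw : w ∈ rots iv base) :
    (w.map v).prod = 1 := by
  simp only [rots, List.mem_flatMap, List.mem_range] at hw
  obtain ⟨r, hr, k, -, hw⟩ := hw
  have h1 : ((r.rotate k).map v).prod = 1 := by
    rw [List.map_rotate]
    exact List.prod_rotate_eq_one_of_prod_eq_one (hbase r hr) k
  have hi : ∀ g < m, (fun i => (v i)⁻¹) (iv g) * (fun i => (v i)⁻¹) g = 1 := fun g hg => by
    simp only
    rw [← mul_inv_rev, hinv g hg, inv_one]
  simp only [List.mem_cons, List.not_mem_nil, or_false] at hw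
  rcases hw with rfl | rfl
  · exact h1
  · have := ev_reverse (fun i => (v i)⁻¹) hi (r.rotate k) fun g hg =>
      hlet r hr g (List.mem_rotate.mp hg)
    rw [ev_inv_val, ev_inv_val, h1] at this
    simpa using this

/-- a derivation with relators among the rotations of `base` and subgroup words `sub` -/
theorem mem_of_deriv {P : Deriv} {word : List ℕ} {v : ℕ → G} {H : Subgroup G}
    (fix : P.Hyp (fun i => (v i)⁻¹) ((1 : G) : G ⧸ H) →
      ev (fun i => (v i)⁻¹) word • ((1 : G) : G ⧸ H) = ((1 : G) : G ⧸ H))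
    (hinv : ∀ g < P.ng, v g * v (P.iv g) = 1) (hivlt : ∀ g < P.ng, P.iv g < P.ng)
    {base : List (List ℕ)} (hlet : ∀ r ∈ base, ∀ g ∈ r, g < P.ng)
    (hbase : ∀ r ∈ base, (r.map v).prod = 1)
    (hrels : ∀ w ∈ P.words.take P.nrel, w ∈ rots P.iv base)
    (hsubs : ∀ w ∈ P.words.drop P.nrel, (w.map v).prod ∈ H) :
    (word.map v).prod ∈ H := by
  have hstab : MulAction.stabilizer G ((1 : G) : G ⧸ H) = H := MulAction.stabilizer_quotient H
  have hone : ∀ w ∈ P.words.take P.nrel, ev (fun i => (v i)⁻¹) w = 1 := fun w hw => by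
    rw [ev_inv_val, prod_rots hinv hlet hbase (hrels w hw), inv_one]
  have h := fix
    { inv := fun g hg => by
        show (v (P.iv g))⁻¹ * (v g)⁻¹ = 1
        rw [← mul_inv_rev, hinv g hg, inv_one]
      ivlt := hivlt
      rels := hone
      subs := fun w hw => by
        rw [← List.take_append_drop P.nrel P.words] at hw
        rcases List.mem_append.mp hw with hw | hw
        · rw [hone w hw, one_smul]
        · rw [← MulAction.mem_stabilizer_iff, hstab, ev_inv_val]
          exact H.inv_mem (hsubs w hw) }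
  rw [← MulAction.mem_stabilizer_iff, hstab, ev_inv_val] at h
  exact H.inv_mem_iff.mp h

theorem eq_one_of_deriv {P : Deriv} {word : List ℕ} {v : ℕ → G}
    (fix : P.Hyp (fun i => (v i)⁻¹) ((1 : G) : G ⧸ (⊥ : Subgroup G)) →
      ev (fun i => (v i)⁻¹) word • ((1 : G) : G ⧸ (⊥ : Subgroup G)) =
        ((1 : G) : G ⧸ (⊥ : Subgroup G)))
    (hinv : ∀ g < P.ng, v g * v (P.iv g) = 1) (hivlt : ∀ g < P.ng, P.iv g < P.ng)
    {base : List (List ℕ)} (hlet : ∀ r ∈ base, ∀ g ∈ r, g < P.ng)
    (hbase : ∀ r ∈ base, (r.map v).prod = 1)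
    (hrels : ∀ w ∈ P.words.take P.nrel, w ∈ rots P.iv base)
    (hlen : P.words.length = P.nrel) :
    (word.map v).prod = 1 := by
  have := mem_of_deriv fix hinv hivlt hlet hbase hrels (fun w hw => by
    rw [List.drop_of_length_le hlen.le] at hw
    exact absurd hw (by simp))
  simpa using this

end HN
end H23
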