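import Mathlib
import Cfsg.Agent.H77.HN.Rels
import Cfsg.Agent.H23.HN.Words

/-!
The argument in a quotient where `x` is an involution: an element of `⟨x, w₀⟩` whose conjugate
by `v` lies there too, which `x` inverts and which has order dividing 3, is trivial.
-/

set_option autoImplicit false

namespace H23
namespace HN

variable {G : Type*} [Group G] {x y z : G}

/-- `y x y x y² x y⁻¹` -/
abbrev wElt (x y : G) : G := y * x * y * x * (y ^ 2) * x * y⁻¹

/-- `y³ x y x y` -/
abbrev vElt (x y : G) : G := y ^ 3 * x * y * x * y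

theorem z_centralizes (h : H77.HN.XYZRel x y z) (hx : x ^ 2 = 1) {a : G}
    (ha : a ∈ Subgroup.closure ({x, wElt x y} : Set G)) : Commute z a := by
  have hz : z⁻¹ = z := inv_eq_of_mul_eq_one_left (by rw [← pow_two]; exact h.z_two)
  have hxi : x⁻¹ = x := inv_eq_of_mul_eq_one_left (by rw [← pow_two]; exact hx)
  have hzx : Commute z x := by
    have h1 : z * x = (z * x)⁻¹ := eq_inv_of_mul_eq_one_left (by rw [← pow_two]; exact h.zx_two)
    show z * x = x * z
    rw [h1, mul_inv_rev, hxi, hz]
  have hzw : Commute z (wElt x y) := by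
    have h1 := h.z_comm
    rw [hx, inv_one, mul_one] at h1
    have h2 : (wElt x y * z)⁻¹ * (z * wElt x y) = 1 := by
      rw [← h1, mul_inv_rev]; simp only [wElt, mul_assoc]
    show z * wElt x y = wElt x y * z
    exact (eq_of_inv_mul_eq_one h2).symm
  induction ha using Subgroup.closure_induction with
  | mem g hg =>
    rcases hg with rfl | hg
    · exact hzx
    · rw [Set.mem_singleton_iff] at hg; subst hg; exact hzw
  | one => exact Commute.one_right z
  | mul g k _ _ hg hk => exact hg.mul_right hk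
  | inv g _ hg => exact hg.inv_right

theorem kill (h : H77.HN.XYZRel x y z) (hx : x ^ 2 = 1) {a : G}
    (h1 : a ∈ Subgroup.closure ({x, wElt x y} : Set G))
    (h2 : vElt x y * a * (vElt x y)⁻¹ ∈ Subgroup.closure ({x, wElt x y} : Set G))
    (hxa : x * a = a⁻¹ * x) (h3 : a ^ 3 = 1) : a = 1 := by
  set v := vElt x y with hv
  have hza : Commute z a := z_centralizes h hx h1
  have hzv : Commute z (v * a * v⁻¹) := z_centralizes h hx h2
  have hz'a : SemiconjBy (v⁻¹ * z * v) a a :=
    calc v⁻¹ * z * v * a = v⁻¹ * (z * (v * a * v⁻¹)) * v := by group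
      _ = v⁻¹ * ((v * a * v⁻¹) * z) * v := by rw [hzv.eq]
      _ = a * (v⁻¹ * z * v) := by group
  have hx' : SemiconjBy x a a⁻¹ := hxa
  have hu : SemiconjBy (v⁻¹ * z * v * x) a a⁻¹ := hz'a.inv_right.mul_left hx'
  have hu' : SemiconjBy (v⁻¹ * z * v * x) a⁻¹ a := by simpa using hu.inv_right
  have hu3 := (hu.mul_left hu').mul_left hu
  rw [← pow_three'] at hu3
  have hconj : z * (v⁻¹ * z * v * x) ^ 3 = 1 := h.z_conj
  have hz3 : (v⁻¹ * z * v * x) ^ 3 = z := by
    rw [eq_inv_of_mul_eq_one_right hconj]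
    exact inv_eq_of_mul_eq_one_left (by rw [← pow_two]; exact h.z_two)
  rw [hz3] at hu3
  have e : a = a⁻¹ := by
    have : a⁻¹ * z = a * z := hu3.eq.symm.trans hza.eq
    exact (mul_right_cancel this).symm
  calc a = a * (a * a) := by rw [mul_eq_one_iff_eq_inv.mpr e, mul_one]
    _ = 1 := by rw [← pow_three]; exact h3

end HN
end H23
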