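import Mathlib
import Cfsg.Agent.H93.CI.Deriv
import Cfsg.Agent.H23.HN.Cube.P0
import Cfsg.Agent.H23.HN.Cube.P1
import Cfsg.Agent.H23.HN.Cube.P2
import Cfsg.Agent.H23.HN.Cube.P3

/-!
A derivation that a word fixes the first coset (generated data).
-/

set_option autoImplicit false
set_option maxRecDepth 100000
set_option linter.all false
set_option Elab.async false

namespace H23
namespace HN
namespace Cube

open H93.CosetI

noncomputable section

variable {G X : Type*} [Group G] [MulAction G X] {gen : ℕ → G} {x₀ : X}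

theorem holds0 : ∀ i < 0, data.Holds gen x₀ i := fun i hi => absurd hi (Nat.not_lt_zero i)
theorem holds1 (h : data.Hyp gen x₀) : ∀ i < 250, data.Holds gen x₀ i :=
  Deriv.steps_sound h st0 ok0 holds0
theorem holds2 (h : data.Hyp gen x₀) : ∀ i < 500, data.Holds gen x₀ i :=
  Deriv.steps_sound h st1 ok1 (holds1 h)
theorem holds3 (h : data.Hyp gen x₀) : ∀ i < 750, data.Holds gen x₀ i :=
  Deriv.steps_sound h st2 ok2 (holds2 h)
theorem holds4 (h : data.Hyp gen x₀) : ∀ i < 1000, data.Holds gen x₀ i :=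
  Deriv.steps_sound h st3 ok3 (holds3 h)
theorem holds5 (h : data.Hyp gen x₀) : ∀ i < 1250, data.Holds gen x₀ i :=
  Deriv.steps_sound h st4 ok4 (holds4 h)
theorem holds6 (h : data.Hyp gen x₀) : ∀ i < 1500, data.Holds gen x₀ i :=
  Deriv.steps_sound h st5 ok5 (holds5 h)
theorem holds7 (h : data.Hyp gen x₀) : ∀ i < 1750, data.Holds gen x₀ i :=
  Deriv.steps_sound h st6 ok6 (holds6 h)
theorem holds8 (h : data.Hyp gen x₀) : ∀ i < 2000, data.Holds gen x₀ i :=
  Deriv.steps_sound h st7 ok7 (holds7 h)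
theorem holds9 (h : data.Hyp gen x₀) : ∀ i < 2250, data.Holds gen x₀ i :=
  Deriv.steps_sound h st8 ok8 (holds8 h)
theorem holds10 (h : data.Hyp gen x₀) : ∀ i < 2500, data.Holds gen x₀ i :=
  Deriv.steps_sound h st9 ok9 (holds9 h)
theorem holds11 (h : data.Hyp gen x₀) : ∀ i < 2750, data.Holds gen x₀ i :=
  Deriv.steps_sound h st10 ok10 (holds10 h)
theorem holds12 (h : data.Hyp gen x₀) : ∀ i < 3000, data.Holds gen x₀ i :=
  Deriv.steps_sound h st11 ok11 (holds11 h)
theorem holds13 (h : data.Hyp gen x₀) : ∀ i < 3250, data.Holds gen x₀ i :=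
  Deriv.steps_sound h st12 ok12 (holds12 h)
theorem holds14 (h : data.Hyp gen x₀) : ∀ i < 3500, data.Holds gen x₀ i :=
  Deriv.steps_sound h st13 ok13 (holds13 h)
theorem holds15 (h : data.Hyp gen x₀) : ∀ i < 3750, data.Holds gen x₀ i :=
  Deriv.steps_sound h st14 ok14 (holds14 h)
theorem holds16 (h : data.Hyp gen x₀) : ∀ i < 4000, data.Holds gen x₀ i :=
  Deriv.steps_sound h st15 ok15 (holds15 h)
theorem holds17 (h : data.Hyp gen x₀) : ∀ i < 4250, data.Holds gen x₀ i :=
  Deriv.steps_sound h st16 ok16 (holds16 h)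
theorem holds18 (h : data.Hyp gen x₀) : ∀ i < 4500, data.Holds gen x₀ i :=
  Deriv.steps_sound h st17 ok17 (holds17 h)
theorem holds19 (h : data.Hyp gen x₀) : ∀ i < 4750, data.Holds gen x₀ i :=
  Deriv.steps_sound h st18 ok18 (holds18 h)
theorem holds20 (h : data.Hyp gen x₀) : ∀ i < 5000, data.Holds gen x₀ i :=
  Deriv.steps_sound h st19 ok19 (holds19 h)
theorem holds21 (h : data.Hyp gen x₀) : ∀ i < 5250, data.Holds gen x₀ i :=
  Deriv.steps_sound h st20 ok20 (holds20 h)
theorem holds22 (h : data.Hyp gen x₀) : ∀ i < 5500, data.Holds gen x₀ i :=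
  Deriv.steps_sound h st21 ok21 (holds21 h)
theorem holds23 (h : data.Hyp gen x₀) : ∀ i < 5750, data.Holds gen x₀ i :=
  Deriv.steps_sound h st22 ok22 (holds22 h)
theorem holds24 (h : data.Hyp gen x₀) : ∀ i < 6000, data.Holds gen x₀ i :=
  Deriv.steps_sound h st23 ok23 (holds23 h)
theorem holds25 (h : data.Hyp gen x₀) : ∀ i < 6250, data.Holds gen x₀ i :=
  Deriv.steps_sound h st24 ok24 (holds24 h)
theorem holds26 (h : data.Hyp gen x₀) : ∀ i < 6500, data.Holds gen x₀ i :=
  Deriv.steps_sound h st25 ok25 (holds25 h)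
theorem holds27 (h : data.Hyp gen x₀) : ∀ i < 6750, data.Holds gen x₀ i :=
  Deriv.steps_sound h st26 ok26 (holds26 h)
theorem holds28 (h : data.Hyp gen x₀) : ∀ i < 7000, data.Holds gen x₀ i :=
  Deriv.steps_sound h st27 ok27 (holds27 h)
theorem holds29 (h : data.Hyp gen x₀) : ∀ i < 7250, data.Holds gen x₀ i :=
  Deriv.steps_sound h st28 ok28 (holds28 h)
theorem holds30 (h : data.Hyp gen x₀) : ∀ i < 7500, data.Holds gen x₀ i :=
  Deriv.steps_sound h st29 ok29 (holds29 h)
theorem holds31 (h : data.Hyp gen x₀) : ∀ i < 7750, data.Holds gen x₀ i :=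
  Deriv.steps_sound h st30 ok30 (holds30 h)
theorem holds32 (h : data.Hyp gen x₀) : ∀ i < 8000, data.Holds gen x₀ i :=
  Deriv.steps_sound h st31 ok31 (holds31 h)
theorem holds33 (h : data.Hyp gen x₀) : ∀ i < 8250, data.Holds gen x₀ i :=
  Deriv.steps_sound h st32 ok32 (holds32 h)
theorem holds34 (h : data.Hyp gen x₀) : ∀ i < 8500, data.Holds gen x₀ i :=
  Deriv.steps_sound h st33 ok33 (holds33 h)
theorem holds35 (h : data.Hyp gen x₀) : ∀ i < 8750, data.Holds gen x₀ i :=
  Deriv.steps_sound h st34 ok34 (holds34 h)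
theorem holds36 (h : data.Hyp gen x₀) : ∀ i < 9000, data.Holds gen x₀ i :=
  Deriv.steps_sound h st35 ok35 (holds35 h)
theorem holds37 (h : data.Hyp gen x₀) : ∀ i < 9250, data.Holds gen x₀ i :=
  Deriv.steps_sound h st36 ok36 (holds36 h)
theorem holds38 (h : data.Hyp gen x₀) : ∀ i < 9500, data.Holds gen x₀ i :=
  Deriv.steps_sound h st37 ok37 (holds37 h)
theorem holds39 (h : data.Hyp gen x₀) : ∀ i < 9750, data.Holds gen x₀ i :=
  Deriv.steps_sound h st38 ok38 (holds38 h)
theorem holds40 (h : data.Hyp gen x₀) : ∀ i < 10000, data.Holds gen x₀ i :=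
  Deriv.steps_sound h st39 ok39 (holds39 h)
theorem holds41 (h : data.Hyp gen x₀) : ∀ i < 10250, data.Holds gen x₀ i :=
  Deriv.steps_sound h st40 ok40 (holds40 h)
theorem holds42 (h : data.Hyp gen x₀) : ∀ i < 10302, data.Holds gen x₀ i :=
  Deriv.steps_sound h st41 ok41 (holds41 h)
def word : List ℕ := [0,2,2,0,1,0,1,0,2,2,0,1,1,0,2,0,2,0,1,1,0,2,2,0,1,0,1,0,2,2,0,1,1,0,2,0,2,0,1,1,0,2,2,0,1,0,1,0,2,2,0,1,1,0,2,0,2,0,1,1]
theorem final : data.finalOK 10302 [0,2,4,6,8,10,12,14,16,18,20,22,24,26,28,30,32,34,36,38,40,42,44,46,48,50,52,54,56,58,60,62,64,66,68,70,72,74,76,78,80,82,84,86,88,90,92,94,96,98,100,102,104,106,108,110,112,114,116,20603] word = true := by decide +kernel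
theorem fix (h : data.Hyp gen x₀) : ev gen word • x₀ = x₀ :=
  Deriv.fix_of_word h (holds42 h) final
end

end Cube
end HN
end H23
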