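import Mathlib
import Cfsg.Agent.H77.HN.Rels
import Cfsg.Agent.H23.HN.Words

/-!
`x ^ 4 = 1` in any group with the relations of the presentation on `x`, `y`, `z`, and `x ^ 2`
commutes with all three.
-/

set_option autoImplicit false

namespace H23
namespace HN

variable {Γ : Type*} [Group Γ] {x y z : Γ}

theorem y_semiconj_sq (h : H77.HN.XYZRel x y z) : SemiconjBy y (x ^ 2) (x ^ 2)⁻¹ := by
  have e : x ^ 2 * (y * x ^ 2 * y⁻¹) = 1 := by
    rw [← mul_assoc, ← mul_assoc]; exact h.x2_y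
  show y * x ^ 2 = (x ^ 2)⁻¹ * y
  rw [← eq_inv_of_mul_eq_one_right e, inv_mul_cancel_right]

theorem x_four (h : H77.HN.XYZRel x y z) : x ^ 4 = 1 := by
  set s := x ^ 2 with hs
  have hy := y_semiconj_sq h
  have hy' : SemiconjBy y s⁻¹ s := by simpa using hy.inv_right
  have hy2 : SemiconjBy (y ^ 2) s s := by
    rw [pow_two]; exact hy'.mul_left hy
  have hy3 : SemiconjBy (y ^ 3) s s⁻¹ := by
    rw [pow_succ']; exact hy.mul_left hy2
  have hxs : SemiconjBy x s s := (Commute.self_pow x 2)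
  have hxs' : SemiconjBy x s⁻¹ s⁻¹ := hxs.inv_right
  have hxi : SemiconjBy x⁻¹ s⁻¹ s⁻¹ := hxs'.inv_symm_left
  have hy2' : SemiconjBy (y ^ 2) s⁻¹ s⁻¹ := hy2.inv_right
  have hm : SemiconjBy (x⁻¹ * y ^ 2 * x * y ^ 3) s s⁻¹ :=
    ((hxi.mul_left hy2').mul_left hxs').mul_left hy3
  have hm' : SemiconjBy (x⁻¹ * y ^ 2 * x * y ^ 3) s⁻¹ s := by simpa using hm.inv_right
  have h3 := (hm.mul_left hm').mul_left hm
  rw [← pow_three'] at h3
  rw [h.mixed_three] at h3
  have e : s = s⁻¹ := by simpa [SemiconjBy] using h3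
  calc x ^ 4 = s * s := by rw [hs, ← pow_add]
    _ = 1 := mul_eq_one_iff_eq_inv.mpr e

theorem sq_inv (h : H77.HN.XYZRel x y z) : (x ^ 2)⁻¹ = x ^ 2 :=
  inv_eq_of_mul_eq_one_left (by rw [← pow_add]; exact x_four h)

theorem sq_comm_y (h : H77.HN.XYZRel x y z) : Commute y (x ^ 2) := by
  have := y_semiconj_sq h
  rwa [sq_inv h] at this

theorem sq_comm_z (h : H77.HN.XYZRel x y z) : Commute z (x ^ 2) := by
  have hzz : z * z = 1 := by rw [← pow_two]; exact h.z_two
  have hzx : z * x * z * x = 1 := by simpa [pow_two, mul_assoc] using h.zx_two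
  have e : SemiconjBy z x x⁻¹ := by
    have e1 : z * x * z = x⁻¹ := eq_inv_of_mul_eq_one_left hzx
    show z * x = x⁻¹ * z
    rw [← e1, mul_assoc, hzz, mul_one]
  have := e.pow_right 2
  rwa [inv_pow, sq_inv h] at this

end HN
end H23
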