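import Mathlib
import Cfsg.Agent.H93.CI.Deriv
import Cfsg.Agent.H23.HN.MemC.P0

/-!
A derivation that a word fixes the first coset (generated data).
-/

set_option autoImplicit false
set_option maxRecDepth 100000
set_option linter.all false
set_option Elab.async false

namespace H23
namespace HN
namespace MemC

open H93.CosetI

noncomputable section

variable {G X : Type*} [Group G] [MulAction G X] {gen : ℕ → G} {x₀ : X}

theorem holds0 : ∀ i < 0, data.Holds gen x₀ i := fun i hi => absurd hi (Nat.not_lt_zero i)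
theorem holds1 (h : data.Hyp gen x₀) : ∀ i < 250, data.Holds gen x₀ i :=
  Deriv.steps_sound h st0 ok0 holds0
theorem holds2 (h : data.Hyp gen x₀) : ∀ i < 500, data.Holds gen x₀ i :=
  Deriv.steps_sound h st1 ok1 (holds1 h)
theorem holds3 (h : data.Hyp gen x₀) : ∀ i < 750, data.Holds gen x₀ i :=
  Deriv.steps_sound h st2 ok2 (holds2 h)
theorem holds4 (h : data.Hyp gen x₀) : ∀ i < 1000, data.Holds gen x₀ i :=
  Deriv.steps_sound h st3 ok3 (holds3 h)
theorem holds5 (h : data.Hyp gen x₀) : ∀ i < 1250, data.Holds gen x₀ i :=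
  Deriv.steps_sound h st4 ok4 (holds4 h)
theorem holds6 (h : data.Hyp gen x₀) : ∀ i < 1500, data.Holds gen x₀ i :=
  Deriv.steps_sound h st5 ok5 (holds5 h)
theorem holds7 (h : data.Hyp gen x₀) : ∀ i < 1750, data.Holds gen x₀ i :=
  Deriv.steps_sound h st6 ok6 (holds6 h)
theorem holds8 (h : data.Hyp gen x₀) : ∀ i < 2000, data.Holds gen x₀ i :=
  Deriv.steps_sound h st7 ok7 (holds7 h)
theorem holds9 (h : data.Hyp gen x₀) : ∀ i < 2250, data.Holds gen x₀ i :=
  Deriv.steps_sound h st8 ok8 (holds8 h)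
theorem holds10 (h : data.Hyp gen x₀) : ∀ i < 2500, data.Holds gen x₀ i :=
  Deriv.steps_sound h st9 ok9 (holds9 h)
theorem holds11 (h : data.Hyp gen x₀) : ∀ i < 2750, data.Holds gen x₀ i :=
  Deriv.steps_sound h st10 ok10 (holds10 h)
theorem holds12 (h : data.Hyp gen x₀) : ∀ i < 2910, data.Holds gen x₀ i :=
  Deriv.steps_sound h st11 ok11 (holds11 h)
def word : List ℕ := [0,2,2,0,1,0,1,0,2,2,0,1,1,0,2,0,2,0,1,1]
theorem final : data.finalOK 2910 [1,14,16,50,153,5693,5818,89,22,3,1,2,23,88,5819,5693,152,51,17,15] word = true := by decide +kernel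
theorem fix (h : data.Hyp gen x₀) : ev gen word • x₀ = x₀ :=
  Deriv.fix_of_word h (holds12 h) final
end

end MemC
end HN
end H23
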