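import Mathlib
import Cfsg.Agent.H23.HN.Four
import Cfsg.Agent.H23.HN.Collapse

/-!
Passing to a quotient in which `x` is an involution, and back.
-/

set_option autoImplicit false

namespace H23
namespace HN

variable {Γ : Type*} [Group Γ] {x y z : Γ}

theorem rel_map {Δ : Type*} [Group Δ] (f : Γ →* Δ) (h : H77.HN.XYZRel x y z) :
    H77.HN.XYZRel (f x) (f y) (f z) := by
  constructor <;> simp only [← map_inv, ← map_mul, ← map_pow]
  · rw [h.y_six, map_one]
  · rw [h.x2_y, map_one]
  · rw [h.comm_three, map_one]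
  · rw [h.mixed_three, map_one]
  · rw [h.xy_eight, map_one]
  · rw [h.xyxy3_four, map_one]
  · rw [h.z_two, map_one]
  · rw [h.zx_two, map_one]
  · rw [h.z_comm, map_one]
  · rw [h.z_conj, map_one]

theorem rel_comap {Δ : Type*} [Group Δ] (f : Γ →* Δ) (hf : Function.Injective f)
    (h : H77.HN.XYZRel (f x) (f y) (f z)) : H77.HN.XYZRel x y z := by
  constructor <;> apply hf <;> simp only [map_inv, map_mul, map_pow, map_one]
  · exact h.y_six
  · exact h.x2_y
  · exact h.comm_three
  · exact h.mixed_three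
  · exact h.xy_eight
  · exact h.xyxy3_four
  · exact h.z_two
  · exact h.zx_two
  · exact h.z_comm
  · exact h.z_conj

/-- `x⁻¹ w⁻¹ x w` for `w = y⁻² x y x y x y⁻²` -/
abbrev cElt (x y : Γ) : Γ :=
  x⁻¹ * (y⁻¹ * y⁻¹ * x * y * x * y * x * y⁻¹ * y⁻¹)⁻¹ * x *
    (y⁻¹ * y⁻¹ * x * y * x * y * x * y⁻¹ * y⁻¹)

theorem map_cElt {Δ : Type*} [Group Δ] (f : Γ →* Δ) (x y : Γ) :
    f (cElt x y) = cElt (f x) (f y) := by
  simp only [cElt, map_mul, map_inv]

def collapseBase : List (List ℕ) :=
  [[2,2,2,2,2,2], [0,0,2,0,0,3], [1,3,0,2,1,3,0,2,1,3,0,2],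
   [1,2,2,0,2,2,2,1,2,2,0,2,2,2,1,2,2,0,2,2,2],
   [0,2,0,2,0,2,0,2,0,2,0,2,0,2,0,2],
   [0,2,0,2,2,2,0,2,0,2,2,2,0,2,0,2,2,2,0,2,0,2,2,2],
   [0,0,0,0], [0,0,2,1,1,3],
   [1,2,2,1,3,1,3,1,2,2,0,3,3,0,2,0,2,0,3,3,0,0]]

/-- the extra relation `c = x²` would force `x² = 1` -/
theorem sq_one_of_cElt_eq (h : H77.HN.XYZRel x y z) (hc : cElt x y = x ^ 2) : x ^ 2 = 1 := by
  have hk : x ^ 2 * y * (x⁻¹ * x⁻¹) * y⁻¹ = 1 := by
    have hc' := (sq_comm_y h).eq
    rw [← hc', ← mul_inv_rev, ← pow_two]
    group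
  have key := eq_one_of_deriv (v := val4 x y) Collapse.fix
    (fun g hg => by
      obtain rfl | rfl | rfl | rfl : g = 0 ∨ g = 1 ∨ g = 2 ∨ g = 3 := by
        have : Collapse.data.ng = 4 := rfl
        omega
      all_goals simp [val4, Collapse.data, iv4])
    (fun g hg => by
      obtain rfl | rfl | rfl | rfl : g = 0 ∨ g = 1 ∨ g = 2 ∨ g = 3 := by
        have : Collapse.data.ng = 4 := rfl
        omega
      all_goals simp [Collapse.data, iv4])
    (base := collapseBase) (by decide +kernel)
    (fun r hr => by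
      simp only [collapseBase, List.mem_cons, List.not_mem_nil, or_false] at hr
      rcases hr with rfl | rfl | rfl | rfl | rfl | rfl | rfl | rfl | rfl
      · simpa [val4, pow_succ, mul_assoc] using h.y_six
      · simpa [val4, pow_succ, mul_assoc] using h.x2_y
      · simpa [val4, pow_succ, mul_assoc] using h.comm_three
      · simpa [val4, pow_succ, mul_assoc] using h.mixed_three
      · simpa [val4, pow_succ, mul_assoc] using h.xy_eight
      · simpa [val4, pow_succ, mul_assoc] using h.xyxy3_four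
      · simpa [val4, pow_succ, mul_assoc] using x_four h
      · simpa [val4, pow_succ, mul_assoc] using hk
      · have e : cElt x y * x ^ 2 = 1 := by rw [hc, ← pow_add]; exact x_four h
        simpa [val4, cElt, pow_succ, mul_assoc] using e)
    (by decide +kernel) rfl
  simpa [val4, Collapse.word, pow_succ] using key

/-- to prove `c = 1` it suffices to do so when `x` is an involution -/
theorem cElt_of_quot.{u} {Γ : Type u} [Group Γ] {x y z : Γ} (h : H77.HN.XYZRel x y z)
    (quot : ∀ {Q : Type u} [Group Q] {a b c : Q}, H77.HN.XYZRel a b c → a ^ 2 = 1 → cElt a b = 1) :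
    cElt x y = 1 := by
  let S := Subgroup.closure ({x, y, z} : Set Γ)
  let xs : S := ⟨x, Subgroup.subset_closure (by simp)⟩
  let ys : S := ⟨y, Subgroup.subset_closure (by simp)⟩
  let zs : S := ⟨z, Subgroup.subset_closure (by simp)⟩
  have hS : H77.HN.XYZRel xs ys zs := rel_comap S.subtype Subtype.val_injective h
  have hcen : ∀ g : S, Commute g (xs ^ 2) := by
    intro g
    have hg : ∀ a ∈ Subgroup.closure ({x, y, z} : Set Γ), Commute a (x ^ 2) := by
      intro a hmem
      induction hmem using Subgroup.closure_induction with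
      | mem a ha =>
        simp only [Set.mem_insert_iff, Set.mem_singleton_iff] at ha
        rcases ha with rfl | rfl | rfl
        · exact Commute.self_pow a 2
        · exact sq_comm_y h
        · exact sq_comm_z h
      | one => exact Commute.one_left _
      | mul a b _ _ ha hb => exact ha.mul_left hb
      | inv a _ ha => exact ha.inv_left
    exact Subtype.ext (hg g g.2).eq
  let Z := Subgroup.zpowers (xs ^ 2)
  have : Z.Normal := ⟨fun n hn g => by
    obtain ⟨k, rfl⟩ := Subgroup.mem_zpowers_iff.mp hn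
    rw [((hcen g).zpow_right k).eq, mul_inv_cancel_right]
    exact Subgroup.zpow_mem _ (Subgroup.mem_zpowers _) k⟩
  let π := QuotientGroup.mk' Z
  have hx2 : (π xs) ^ 2 = 1 := by
    rw [← map_pow]; exact (QuotientGroup.eq_one_iff _).mpr (Subgroup.mem_zpowers _)
  have hq := quot (rel_map π hS) hx2
  rw [← map_cElt] at hq
  obtain ⟨k, hk⟩ := Subgroup.mem_zpowers_iff.mp ((QuotientGroup.eq_one_iff _).mp hq)
  have hk' : (x ^ 2) ^ k = cElt x y := by
    have := congrArg S.subtype hk
    rw [map_cElt, map_zpow, map_pow] at this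
    exact this
  have hs : (x ^ 2) ^ (2 : ℤ) = 1 := by
    rw [zpow_two, ← pow_add]; exact x_four h
  rcases Int.even_or_odd' k with ⟨j, rfl | rfl⟩
  · rw [← hk', zpow_mul, hs, one_zpow]
  · rw [zpow_add, zpow_mul, hs, one_zpow, one_mul, zpow_one] at hk'
    rw [← hk']
    exact sq_one_of_cElt_eq h hk'.symm

end HN
end H23
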