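import Mathlib
import Cfsg.Agent.H23.HN.Core
import Cfsg.Agent.H23.HN.Quot
import Cfsg.Agent.H23.HN.MemC
import Cfsg.Agent.H23.HN.MemV
import Cfsg.Agent.H23.HN.Cube

/-!
The relations `x⁴ = 1` (file `Four`) and `[x, y⁻²xyxyxy⁻²] = 1` follow from the relations of the
presentation of the Harada–Norton group on `x`, `y`, `z`.
-/

set_option autoImplicit false

namespace H23
namespace HN

variable {G : Type*} [Group G] {x y z : G}

def base3 : List (List ℕ) :=
  [[1,1,1,1,1,1], [0,2,0,1,0,2,0,1,0,2,0,1],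
   [0,1,1,0,1,1,1,0,1,1,0,1,1,1,0,1,1,0,1,1,1],
   [0,1,0,1,0,1,0,1,0,1,0,1,0,1,0,1],
   [0,1,0,1,1,1,0,1,0,1,1,1,0,1,0,1,1,1,0,1,0,1,1,1]]

theorem base3_prod (h : H77.HN.XYZRel x y z) (hx : x ^ 2 = 1) :
    ∀ r ∈ base3, (r.map (val3 x y)).prod = 1 := by
  have hxi : x⁻¹ = x := inv_eq_of_mul_eq_one_left (by rw [← pow_two]; exact hx)
  intro r hr
  simp only [base3, List.mem_cons, List.not_mem_nil, or_false] at hr
  rcases hr with rfl | rfl | rfl | rfl | rfl
  · simpa [val3, pow_succ, mul_assoc] using h.y_six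
  · simpa [val3, pow_succ, mul_assoc, hxi] using h.comm_three
  · simpa [val3, pow_succ, mul_assoc, hxi] using h.mixed_three
  · simpa [val3, pow_succ, mul_assoc] using h.xy_eight
  · simpa [val3, pow_succ, mul_assoc] using h.xyxy3_four

theorem val3_inv (hx : x ^ 2 = 1) : ∀ g < 3, val3 x y g * val3 x y (iv3 g) = 1 := by
  intro g hg
  obtain rfl | rfl | rfl : g = 0 ∨ g = 1 ∨ g = 2 := by omega
  · simpa [val3, iv3, pow_two] using hx
  · simp [val3, iv3]
  · simp [val3, iv3]

theorem iv3_lt : ∀ g < 3, iv3 g < 3 := by decide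

theorem cElt_of_involution (h : H77.HN.XYZRel x y z) (hx : x ^ 2 = 1) : cElt x y = 1 := by
  have hxx : x * x = 1 := by rw [← pow_two]; exact hx
  have hxi : x⁻¹ = x := inv_eq_of_mul_eq_one_left hxx
  have hxl : ∀ u : G, x * (x * u) = u := fun u => by rw [← mul_assoc, hxx, one_mul]
  set w := y⁻¹ * y⁻¹ * x * y * x * y * x * y⁻¹ * y⁻¹ with hw
  set a := x * w * x * w⁻¹ with ha
  have hsub : ∀ l ∈ ([[0], [1,0,1,0,1,1,0,2]] : List (List ℕ)),
      (l.map (val3 x y)).prod ∈ Subgroup.closure ({x, wElt x y} : Set G) := by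
    intro l hl
    simp only [List.mem_cons, List.not_mem_nil, or_false] at hl
    rcases hl with rfl | rfl
    · exact Subgroup.subset_closure (by simp [val3])
    · exact Subgroup.subset_closure (Or.inr (by simp [val3, wElt, pow_succ, mul_assoc]))
  have h1 : a ∈ Subgroup.closure ({x, wElt x y} : Set G) := by
    have k := mem_of_deriv (v := val3 x y) (H := Subgroup.closure ({x, wElt x y} : Set G))
      MemC.fix (val3_inv hx) iv3_lt (base := base3) (by decide +kernel) (base3_prod h hx)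
      (by decide +kernel) hsub
    convert k using 1
    simp [MemC.word, val3, ha, hw, hxi, mul_assoc]
  have h2 : vElt x y * a * (vElt x y)⁻¹ ∈ Subgroup.closure ({x, wElt x y} : Set G) := by
    have k := mem_of_deriv (v := val3 x y) (H := Subgroup.closure ({x, wElt x y} : Set G))
      MemV.fix (val3_inv hx) iv3_lt (base := base3) (by decide +kernel) (base3_prod h hx)
      (by decide +kernel) hsub
    convert k using 1
    simp [MemV.word, val3, ha, hw, vElt, hxi, hxl, pow_succ, mul_assoc]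
  have h3 : a ^ 3 = 1 := by
    have k := eq_one_of_deriv (v := val3 x y) Cube.fix (val3_inv hx) iv3_lt (base := base3)
      (by decide +kernel) (base3_prod h hx) (by decide +kernel) rfl
    simpa [Cube.word, val3, ha, hw, hxi, pow_succ, mul_assoc] using k
  have hxa : x * a = a⁻¹ * x := by
    simp [ha, hxi, hxl, mul_assoc, hxx]
  have e : x * w * x * w⁻¹ = 1 := kill h hx h1 h2 hxa h3
  have hc : Commute x w := by
    show x * w = w * x
    have e1 := mul_inv_eq_one.mp e
    calc x * w = x * w * x * x := by rw [mul_assoc (x * w) x x, hxx, mul_one]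
      _ = w * x := by rw [e1]
  show x⁻¹ * w⁻¹ * x * w = 1
  rw [mul_assoc (x⁻¹ * w⁻¹) x w, hc.eq]
  group

/-- the relation `[x, y⁻² x y x y x y⁻²] = 1` -/
theorem r35 {Γ : Type*} [Group Γ] {x y z : Γ} (h : H77.HN.XYZRel x y z) :
    x⁻¹ * (y⁻¹ * y⁻¹ * x * y * x * y * x * y⁻¹ * y⁻¹)⁻¹ * x *
      (y⁻¹ * y⁻¹ * x * y * x * y * x * y⁻¹ * y⁻¹) = 1 :=
  cElt_of_quot h fun hr ha => cElt_of_involution hr ha

end HN
end H23
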